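import Mathlib
import Groth.Prelude.Def_Found
import Groth.Agent.H57.GRingMax
import Groth.Agent.H23.GRDescent
import Groth.Agent.H26.RegHomComp
import Groth.Agent.H26.RegHomBaseChange
import Groth.Agent.H26.RegHomDescent
import Groth.Agent.H26.SkFlat
import Groth.Agent.H72.HensGRing
import Groth.Agent.H14.GeomBC.RegAny

/-!
# Regularity of a ring map is local on source and target (S9259)
-/

set_option autoImplicit false
set_option linter.style.haveILetI false
set_option linter.unusedSectionVars false
universe u

namespace Groth.Agent.H78.RegLoc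

open TensorProduct IsLocalRing Groth.Agent.H26.RegHomDescent

/-- For a regular map `A → C` and a field `L` over `A`, `L ⊗_A C` is regular when Noetherian. -/
theorem isRegularRing_field_tensor (A C : Type u) [CommRing A] [CommRing C] [Algebra A C]
    (h : CAlg.IsRegularHom A C) (L : Type u) [Field L] [Algebra A L]
    [IsNoetherianRing (L ⊗[A] C)] : IsRegularRing (L ⊗[A] C) := by
  obtain ⟨P, hP, alg, tower⟩ :=
    Groth.Agent.H26.RegHomBaseChange.exists_residueField_algebra' (R := A) L
  have e1 := tensorFiberEquiv A C L P
  haveI : IsNoetherianRing (L ⊗[P.ResidueField] (P.Fiber C)) :=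
    isNoetherianRing_of_ringEquiv _ e1
  have h1 :=
    Groth.Agent.H14.GeomBC.isRegularRing_tensor_of_isGeometricallyRegular_of_isNoetherianRing
      P.ResidueField (P.Fiber C) (h.2 P).2 L
  exact @IsRegularRing.of_ringEquiv _ _ _ _ e1.symm h1

variable (R Λ : Type u) [CommRing R] [CommRing Λ] [Algebra R Λ] [IsNoetherianRing Λ]

theorem isScalarTower_localRingHom (q : Ideal Λ) [q.IsPrime] :
    letI := (Localization.localRingHom (Ideal.comap (algebraMap R Λ) q) q
      (algebraMap R Λ) rfl).toAlgebra
    IsScalarTower R (Localization.AtPrime (Ideal.comap (algebraMap R Λ) q))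
      (Localization.AtPrime q) := by
  letI := (Localization.localRingHom (Ideal.comap (algebraMap R Λ) q) q
      (algebraMap R Λ) rfl).toAlgebra
  refine IsScalarTower.of_algebraMap_eq (fun r => ?_)
  rw [RingHom.algebraMap_toAlgebra, Localization.localRingHom_to_map,
    ← IsScalarTower.algebraMap_apply]

/-- Localizing a regular map at a prime of the target gives a regular map. -/
theorem isRegularHom_localRingHom (h : CAlg.IsRegularHom R Λ) (q : Ideal Λ) [q.IsPrime] :
    letI := (Localization.localRingHom (Ideal.comap (algebraMap R Λ) q) q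
      (algebraMap R Λ) rfl).toAlgebra
    CAlg.IsRegularHom (Localization.AtPrime (Ideal.comap (algebraMap R Λ) q))
      (Localization.AtPrime q) := by
  letI := (Localization.localRingHom (Ideal.comap (algebraMap R Λ) q) q
      (algebraMap R Λ) rfl).toAlgebra
  haveI := isScalarTower_localRingHom R Λ q
  haveI : IsNoetherianRing (Localization.AtPrime q) :=
    IsLocalization.isNoetherianRing q.primeCompl _ inferInstance
  have h2 : CAlg.IsRegularHom Λ (Localization.AtPrime q) :=
    Groth.Agent.H57.GRingMax.isRegularHom_localization Λ _ q.primeCompl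
  have h3 : CAlg.IsRegularHom R (Localization.AtPrime q) :=
    Groth.Agent.H26.RegHomComp.isRegularHom_comp R Λ _ h h2
      (fun p _ => Groth.Agent.H26.SkFlat.isNoetherianRing_fiber _ p)
  exact Groth.Agent.H23.GRDescent.isRegularHom_of_isLocalization R _ _
    (Ideal.comap (algebraMap R Λ) q).primeCompl h3

end Groth.Agent.H78.RegLoc
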