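import Mathlib
import Groth.Agent.H78.RegLoc.Main

/-!
# Regularity of a ring map can be checked at the maximal ideals of the target
-/

set_option autoImplicit false
set_option linter.style.haveILetI false
set_option linter.unusedSectionVars false
universe u

namespace Groth.Agent.H78.RegLoc

open TensorProduct IsLocalRing Groth.Agent.H26.RegHomDescent

/-- Regularity of a Noetherian ring `T` from regularity of a localization in which a given prime
survives. -/
theorem isRegularLocalRing_atPrime_of_isLocalization (T T' : Type u) [CommRing T] [CommRing T']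
    [Algebra T T'] (M : Submonoid T) [IsLocalization M T'] [IsRegularRing T'] (Q : Ideal T)
    [Q.IsPrime] (hQ : Disjoint (M : Set T) (Q : Set T)) :
    IsRegularLocalRing (Localization.AtPrime Q) := by
  set Q' : Ideal T' := Q.map (algebraMap T T') with hQ'
  haveI hQ'prime : Q'.IsPrime :=
    IsLocalization.isPrime_of_isPrime_disjoint M T' Q inferInstance hQ
  have hcomap : Q'.comap (algebraMap T T') = Q :=
    IsLocalization.under_map_of_isPrime_disjoint M T' inferInstance hQ
  haveI h1 : IsLocalization.AtPrime (Localization.AtPrime Q') (Q'.comap (algebraMap T T')) :=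
    IsLocalization.isLocalization_isLocalization_atPrime_isLocalization M _ Q'
  haveI h2 : IsLocalization Q.primeCompl (Localization.AtPrime Q') := by
    have h1' : IsLocalization (Q'.comap (algebraMap T T')).primeCompl
        (Localization.AtPrime Q') := h1
    have hm : (Q'.comap (algebraMap T T')).primeCompl = Q.primeCompl := by
      ext x
      rw [Ideal.mem_primeCompl_iff, Ideal.mem_primeCompl_iff, hcomap]
    rwa [hm] at h1'
  have e : Localization.AtPrime Q' ≃ₐ[T] Localization.AtPrime Q :=
    IsLocalization.algEquiv Q.primeCompl _ _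
  haveI : IsRegularLocalRing (Localization.AtPrime Q') := inferInstance
  exact IsRegularLocalRing.of_ringEquiv e.toRingEquiv

set_option maxHeartbeats 800000 in
/-- A ring map with Noetherian target is regular if it is so at every maximal ideal of the
target. -/
theorem isRegularHom_of_forall_maximal (R Λ : Type u) [CommRing R] [CommRing Λ] [Algebra R Λ]
    [IsNoetherianRing Λ]
    (h : ∀ (n : Ideal Λ) [n.IsMaximal],
      letI := (Localization.localRingHom (Ideal.comap (algebraMap R Λ) n) n
        (algebraMap R Λ) rfl).toAlgebra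
      CAlg.IsRegularHom (Localization.AtPrime (Ideal.comap (algebraMap R Λ) n))
        (Localization.AtPrime n)) :
    CAlg.IsRegularHom R Λ := by
  have hflat : Module.Flat R Λ := by
    refine Module.flat_of_isLocalized_maximal Λ Λ (fun n _ => Localization.AtPrime n)
      (fun n _ => Algebra.linearMap Λ (Localization.AtPrime n)) (fun n hn => ?_)
    letI := (Localization.localRingHom (Ideal.comap (algebraMap R Λ) n) n
      (algebraMap R Λ) rfl).toAlgebra
    haveI := isScalarTower_localRingHom R Λ n
    haveI : Module.Flat (Localization.AtPrime (Ideal.comap (algebraMap R Λ) n))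
        (Localization.AtPrime n) := (h n).1
    exact Module.Flat.trans R (Localization.AtPrime (Ideal.comap (algebraMap R Λ) n))
      (Localization.AtPrime n)
  refine ⟨hflat, fun p' hp' =>
    ⟨Groth.Agent.H26.SkFlat.isNoetherianRing_fiber Λ p', fun k' _ _ hfin => ?_⟩⟩
  haveI hNF : IsNoetherianRing (p'.Fiber Λ) := Groth.Agent.H26.SkFlat.isNoetherianRing_fiber Λ p'
  letI : Algebra R k' :=
    ((algebraMap p'.ResidueField k').comp (algebraMap R p'.ResidueField)).toAlgebra
  haveI : IsScalarTower R p'.ResidueField k' := IsScalarTower.of_algebraMap_eq (fun _ => rfl)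
  refine @IsRegularRing.of_ringEquiv _ _ _ _ (tensorFiberEquiv R Λ k' p') ?_
  haveI hN0 : IsNoetherianRing ((p'.Fiber Λ) ⊗[p'.ResidueField] k') :=
    IsNoetherianRing.of_finite (p'.Fiber Λ) _
  haveI hN1 : IsNoetherianRing (k' ⊗[p'.ResidueField] p'.Fiber Λ) :=
    isNoetherianRing_of_ringEquiv _
      (Algebra.TensorProduct.comm p'.ResidueField (p'.Fiber Λ) k').toRingEquiv
  haveI hNT : IsNoetherianRing (k' ⊗[R] Λ) :=
    isNoetherianRing_of_ringEquiv _ (tensorFiberEquiv R Λ k' p').symm
  rw [isRegularRing_iff]
  intro Q hQ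
  set q₀ : Ideal Λ :=
    Q.comap (Algebra.TensorProduct.includeRight : Λ →ₐ[R] k' ⊗[R] Λ).toRingHom with hq₀
  have hq₀ne : q₀ ≠ ⊤ := (Ideal.comap_isPrime _ Q).ne_top
  obtain ⟨n, hn, hq₀n⟩ := Ideal.exists_le_maximal q₀ hq₀ne
  haveI := hn
  set p : Ideal R := Ideal.comap (algebraMap R Λ) n with hp
  letI algRpΛn := (Localization.localRingHom p n (algebraMap R Λ) rfl).toAlgebra
  haveI := isScalarTower_localRingHom R Λ n
  have hunits : ∀ y : p.primeCompl, IsUnit (algebraMap R k' y) := by
    rintro ⟨r, hr⟩
    rw [isUnit_iff_ne_zero]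
    intro h0
    apply hr
    show algebraMap R Λ r ∈ n
    apply hq₀n
    show (1 : k') ⊗ₜ[R] algebraMap R Λ r ∈ Q
    have : (1 : k') ⊗ₜ[R] algebraMap R Λ r = (algebraMap R k' r) ⊗ₜ[R] (1 : Λ) := by
      rw [Algebra.algebraMap_eq_smul_one, Algebra.algebraMap_eq_smul_one (A := k'),
        TensorProduct.smul_tmul]
    rw [this, h0, zero_tmul]
    exact Q.zero_mem
  letI : Algebra (Localization.AtPrime p) k' :=
    (IsLocalization.lift (M := p.primeCompl) (g := algebraMap R k') hunits).toAlgebra
  haveI : IsScalarTower R (Localization.AtPrime p) k' :=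
    IsScalarTower.of_algebraMap_eq (fun r => by
      show algebraMap R k' r = IsLocalization.lift (M := p.primeCompl) (g := algebraMap R k')
        hunits (algebraMap R (Localization.AtPrime p) r)
      rw [IsLocalization.lift_eq])
  letI : Algebra (k' ⊗[R] Λ) (k' ⊗[R] Localization.AtPrime n) :=
    (Algebra.TensorProduct.map (AlgHom.id R k')
      (IsScalarTower.toAlgHom R Λ (Localization.AtPrime n))).toRingHom.toAlgebra
  haveI : IsScalarTower k' (k' ⊗[R] Λ) (k' ⊗[R] Localization.AtPrime n) :=
    IsScalarTower.of_algebraMap_eq (fun x => by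
      show x ⊗ₜ[R] (1 : Localization.AtPrime n) = Algebra.TensorProduct.map (AlgHom.id R k')
        (IsScalarTower.toAlgHom R Λ (Localization.AtPrime n)) (x ⊗ₜ[R] 1)
      simp)
  haveI hloc : IsLocalization
      (n.primeCompl.map (Algebra.TensorProduct.includeRight (R := R) (A := k')))
      (k' ⊗[R] Localization.AtPrime n) :=
    IsLocalization.tensorProduct_tensorProduct_right R k' n.primeCompl (Localization.AtPrime n)
      (by
        ext x
        simp [RingHom.algebraMap_toAlgebra])
  haveI hNTn : IsNoetherianRing (k' ⊗[R] Localization.AtPrime n) :=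
    IsLocalization.isNoetherianRing
      (n.primeCompl.map (Algebra.TensorProduct.includeRight (R := R) (A := k'))) _ hNT
  let e := IsLocalization.algebraTensorEquiv p.primeCompl (Localization.AtPrime p) k'
    (Localization.AtPrime n)
  haveI : IsNoetherianRing (k' ⊗[Localization.AtPrime p] Localization.AtPrime n) :=
    isNoetherianRing_of_ringEquiv _ e.symm.toRingEquiv
  have hreg0 : IsRegularRing (k' ⊗[Localization.AtPrime p] Localization.AtPrime n) :=
    isRegularRing_field_tensor _ _ (h n) k'
  haveI hreg : IsRegularRing (k' ⊗[R] Localization.AtPrime n) :=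
    @IsRegularRing.of_ringEquiv _ _ _ _ e.toRingEquiv hreg0
  apply isRegularLocalRing_atPrime_of_isLocalization (k' ⊗[R] Λ)
    (k' ⊗[R] Localization.AtPrime n)
    (n.primeCompl.map (Algebra.TensorProduct.includeRight (R := R) (A := k'))) Q
  rw [Set.disjoint_left]
  rintro _ ⟨s, hs, rfl⟩ hsQ
  exact hs (hq₀n hsQ)

end Groth.Agent.H78.RegLoc
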